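import Groth.Agent.L13.Purity.Spread
import Groth.Agent.L13.Purity.Scheme
import Groth.Agent.S0247
import Mathlib.CategoryTheory.MorphismProperty.OverAdjunction

/-! Extension of a finite etale cover over a Noetherian scheme from the codimension one points. -/

set_option autoImplicit false
set_option linter.style.haveILetI false
set_option backward.isDefEq.respectTransparency.types false

universe u

open CategoryTheory CategoryTheory.Limits AlgebraicGeometry TopologicalSpace

namespace Groth.L27.ExtendReg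

/-- restriction along a composite -/
noncomputable def restrictIso {A B C : Scheme.{u}} (a : A ⟶ B) (b : B ⟶ C) {c : A ⟶ C} (h : a ≫ b = c)
    (Y : FEt.Cat C) : (FEt.restrict a).obj ((FEt.restrict b).obj Y) ≅ (FEt.restrict c).obj Y :=
  ((MorphismProperty.Over.pullbackComp (P := FEt.prop) (Q := ⊤) a b).app Y).symm ≪≫
    (MorphismProperty.Over.pullbackCongr (P := FEt.prop) (Q := ⊤) h).app Y

/-- the local extension hypothesis at a point -/
def ExtAt {X : Scheme.{u}} (U : X.Opens) (Y : FEt.Cat U.toScheme) (ξ : X) : Prop :=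
  ∃ Yξ : FEt.Cat (Spec (X.presheaf.stalk ξ)),
    Nonempty ((FEt.restrict (pullback.snd U.ι (X.fromSpecStalk ξ))).obj Yξ ≅
      (FEt.restrict (pullback.fst U.ι (X.fromSpecStalk ξ))).obj Y)

variable {X : Scheme.{u}}

/-- at a point outside a dense open with domain stalk, the generic point of the local scheme is in the open -/
theorem genericPoint_mem [IsLocallyNoetherian X] (U : X.Opens) (hU : Dense (U : Set X)) (x : X)
    [IsDomain (X.presheaf.stalk x)] (z : Spec (X.presheaf.stalk x)) (hz : z.asIdeal = ⊥) :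
    X.fromSpecStalk x z ∈ U := by
  obtain ⟨N, hN, hxN, hdom⟩ := Groth.L13.Purity.exists_isDomain_nhd x
  haveI := hdom
  obtain ⟨q, hqN, hqU⟩ := hU.inter_open_nonempty N N.2 ⟨x, hxN⟩
  let z0 : Spec Γ(X, N) := (⟨⊥, Ideal.isPrime_bot⟩ : PrimeSpectrum Γ(X, N))
  have h1 : hN.fromSpec z0 ∈ U := by
    have h2 : hN.fromSpec z0 ⤳ hN.fromSpec (hN.primeIdealOf ⟨q, hqN⟩) :=
      Specializes.map ((PrimeSpectrum.le_iff_specializes z0 (hN.primeIdealOf ⟨q, hqN⟩)).1 bot_le) hN.fromSpec.continuous
    rw [hN.fromSpec_primeIdealOf] at h2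
    exact h2.mem_open U.2 hqU
  rw [← hN.fromSpecStalk_eq_fromSpecStalk hxN]
  letI := X.presheaf.algebra_section_stalk ⟨x, hxN⟩
  haveI := hN.isLocalization_stalk ⟨x, hxN⟩
  have hinj : Function.Injective (X.presheaf.germ N x hxN).hom :=
    IsLocalization.injective (M := (hN.primeIdealOf ⟨x, hxN⟩).asIdeal.primeCompl) (X.presheaf.stalk x)
      (Ideal.primeCompl_le_nonZeroDivisors _)
  show hN.fromSpec (Spec.map (X.presheaf.germ N x hxN) z) ∈ U
  convert h1
  refine PrimeSpectrum.ext ?_
  show Ideal.comap (X.presheaf.germ N x hxN).hom z.asIdeal = ⊥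
  rw [hz]
  exact Ideal.comap_bot_of_injective _ hinj

theorem ext_top [AlgebraicGeometry.IsNoetherian X] (U : X.Opens) (hU : Dense (U : Set X)) (Y : FEt.Cat U.toScheme)
    (hreg : ∀ x : X, x ∉ U → IsRegularLocalRing (X.presheaf.stalk x))
    (hunr : ∀ ξ : X, ξ ∉ U → ringKrullDim (X.presheaf.stalk ξ) = 1 → ExtAt U Y ξ) :
    Groth.L13.Purity.Spread.Ext U Y.hom ⊤ := by
  classical
  by_contra hne
  obtain ⟨U', ⟨hle, hext⟩, hmax⟩ := (wellFounded_gt (α := X.Opens)).has_min
    {U' | U ≤ U' ∧ Groth.L13.Purity.Spread.Ext U Y.hom U'}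
    ⟨U, le_rfl, Groth.L13.Purity.Spread.ext_self U Y.hom Y.prop⟩
  obtain ⟨z, hz⟩ : ∃ z : X, z ∉ U' := by
    by_contra! hall
    exact hne ((eq_top_iff.2 fun z _ => hall z : U' = ⊤) ▸ hext)
  -- a maximal point of the complement
  let Z : Set X := (U' : Set X)ᶜ
  have hZc : IsClosed Z := U'.2.isClosed_compl
  obtain ⟨K, hK, hzK⟩ : ∃ K ∈ irreducibleComponents Z, (⟨z, hz⟩ : Z) ∈ K :=
    ⟨irreducibleComponent _, irreducibleComponent_mem_irreducibleComponents _, mem_irreducibleComponent⟩
  let K' : Set X := Subtype.val '' K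
  have hKirr : IsIrreducible K' := hK.1.image _ continuous_subtype_val.continuousOn
  have hKcl : IsClosed K' := hZc.isClosedEmbedding_subtypeVal.isClosedMap _ (isClosed_of_mem_irreducibleComponents K hK)
  obtain ⟨x, hx⟩ := QuasiSober.sober hKirr hKcl
  have hxU : x ∉ U' := by
    obtain ⟨⟨x', hx'⟩, -, rfl⟩ := hx.mem
    exact hx'
  have hmin : ∀ t, t ⤳ x → t ≠ x → t ∈ U' := by
    intro t ht hne'
    by_contra htU
    have hsub : K' ⊆ closure {t} := by
      rw [← hx.def]; exact closure_minimal (Set.singleton_subset_iff.2 ht.mem_closure) isClosed_closure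
    have hT : IsIrreducible (Subtype.val ⁻¹' closure ({t} : Set X) : Set Z) := by
      have : (Subtype.val ⁻¹' closure ({t} : Set X) : Set Z) = closure {(⟨t, htU⟩ : Z)} := by
        rw [hZc.isClosedEmbedding_subtypeVal.isEmbedding.closure_eq_preimage_closure_image, Set.image_singleton]
      rw [this]; exact isIrreducible_singleton.closure
    have h1 : K ⊆ (Subtype.val ⁻¹' closure ({t} : Set X) : Set Z) := fun k hk => hsub ⟨k, hk, rfl⟩
    have h2 := hK.2 hT h1 (show (⟨t, htU⟩ : Z) ∈ _ from subset_closure rfl)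
    exact hne' ((ht.antisymm (hx.specializes ⟨⟨t, htU⟩, h2, rfl⟩)).eq)
  have hxU0 : x ∉ U := fun h => hxU (hle h)
  haveI := hreg x hxU0
  haveI := Groth.L01.isDomain_of_regular (X.presheaf.stalk x)
  let R := X.presheaf.stalk x
  let fsp := X.fromSpecStalk x
  have hsuff : ∃ U'', U' < U'' ∧ Groth.L13.Purity.Spread.Ext U Y.hom U'' := by
    by_cases h2 : (2 : WithBot ℕ∞) ≤ ringKrullDim R
    · exact Groth.L13.Purity.Spread.exists_ext_lt U Y.hom hle hext x hxU hmin (Groth.Agent.S0247.result R h2)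
    -- the closed point is not generic
    have hnb : IsLocalRing.maximalIdeal R ≠ ⊥ := fun h0 => by
      refine hxU0 ?_
      have := genericPoint_mem U hU x (IsLocalRing.closedPoint R) h0
      rwa [X.fromSpecStalk_closedPoint] at this
    haveI : IsNoetherianRing R := inferInstance
    have hd1 : ringKrullDim R = 1 := by
      have hd := IsLocalRing.maximalIdeal_height_eq_ringKrullDim (R := R)
      have h0 : (IsLocalRing.maximalIdeal R).height ≠ 0 := fun h0 => hnb (by
        have := (Ideal.height_eq_zero_iff_eq_bot (I := IsLocalRing.maximalIdeal R)).1 h0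
        exact this)
      have h2' : ¬ (2 : ℕ∞) ≤ (IsLocalRing.maximalIdeal R).height := fun hh => h2 (hd ▸ WithBot.coe_le_coe.2 hh)
      have h1 : (IsLocalRing.maximalIdeal R).height = 1 := by
        revert h0 h2'
        cases (IsLocalRing.maximalIdeal R).height with
        | top => intro _ h; exact absurd le_top h
        | coe n => intro a b; norm_cast at a b ⊢; omega
      rw [← hd, h1]; rfl
    obtain ⟨Yξ, ⟨eY⟩⟩ := hunr x hxU0 hd1
    refine Groth.L13.Purity.Spread.exists_ext_lt' U Y.hom hle hext x hxU hmin fun W0 v hv q hq => ?_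
    let pu := FEt.puncturedSpec R
    have hpu : ∀ p : pu.toScheme, fsp (pu.ι p) ∈ U := by
      intro p
      refine genericPoint_mem U hU x _ ?_
      have hp : p.1 ≠ IsLocalRing.closedPoint R := p.2
      haveI := p.1.isPrime
      by_contra hb
      have hlt : p.1.asIdeal < IsLocalRing.maximalIdeal R :=
        lt_of_le_of_ne (IsLocalRing.le_maximalIdeal p.1.isPrime.ne_top) fun he => hp (PrimeSpectrum.ext he)
      have h3 := Ideal.height_strict_mono_of_isPrime hlt
      have h4 : (⊥ : Ideal R) < p.1.asIdeal := bot_lt_iff_ne_bot.2 hb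
      have h5 := Ideal.height_strict_mono_of_isPrime h4
      have h6 : (IsLocalRing.maximalIdeal R).height = 1 := by
        have := IsLocalRing.maximalIdeal_height_eq_ringKrullDim (R := R)
        rw [hd1] at this
        exact_mod_cast this
      rw [h6, Order.lt_one_iff] at h3
      rw [h3] at h5
      exact not_lt_zero' h5
    let r : pu.toScheme ⟶ U.toScheme := IsOpenImmersion.lift U.ι (pu.ι ≫ fsp) (by
      rintro _ ⟨p, rfl⟩
      rw [Scheme.Opens.range_ι]
      exact hpu p)
    have hr : r ≫ U.ι = pu.ι ≫ fsp := IsOpenImmersion.lift_fac _ _ _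
    have hrq : r ≫ X.homOfLE hle = q := by
      rw [← cancel_mono U'.ι, Category.assoc, Scheme.homOfLE_ι, hr, hq]
    let t : pu.toScheme ⟶ pullback U.ι fsp := pullback.lift r pu.ι hr
    let eW : (FEt.restrict (X.homOfLE hle)).obj W0 ≅ Y :=
      (MorphismProperty.Over.isoMk hv.isoPullback (by exact hv.isoPullback_hom_snd)).symm
    exact ⟨Yξ, ⟨(restrictIso t _ (pullback.lift_snd _ _ _) Yξ).symm ≪≫ (FEt.restrict t).mapIso eY ≪≫
      restrictIso t _ (pullback.lift_fst _ _ _) Y ≪≫ (FEt.restrict r).mapIso eW.symm ≪≫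
      restrictIso r (X.homOfLE hle) hrq W0⟩⟩
  obtain ⟨U'', hlt, hext''⟩ := hsuff
  exact hmax U'' ⟨hle.trans hlt.le, hext''⟩ hlt

end Groth.L27.ExtendReg
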