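import Groth.Agent.L27.ExtendReg.Norm
import Groth.Agent.L13.Purity.Equiv
import Groth.Agent.L27.ExtendReg.Step
import Groth.Agent.L27.EtLocal.StalkProps
import Groth.Agent.L03.RegularNormal

/-! Extension of finite etale covers unramified in codimension one over regular points. -/

set_option autoImplicit false
set_option linter.style.haveILetI false
set_option backward.isDefEq.respectTransparency.types false

universe u

open CategoryTheory CategoryTheory.Limits AlgebraicGeometry TopologicalSpace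

namespace Groth.L27.ExtendReg

variable {X : Scheme.{u}}

/-- the hypotheses restrict to opens -/
theorem extAt_restrict (D : X.Opens) (U : X.Opens) (Y : FEt.Cat U.toScheme)
    (e : (D.ι ⁻¹ᵁ U).toScheme ⟶ U.toScheme) (he : e ≫ U.ι = (D.ι ⁻¹ᵁ U).ι ≫ D.ι)
    (ξ : D.toScheme) (h : ExtAt U Y (D.ι ξ)) : ExtAt (D.ι ⁻¹ᵁ U) ((FEt.restrict e).obj Y) ξ := by
  obtain ⟨Yξ, ⟨eY⟩⟩ := h
  let UD := D.ι ⁻¹ᵁ U
  let φ := Spec.map (D.ι.stalkMap ξ)
  have hφ : φ ≫ X.fromSpecStalk (D.ι ξ) = D.toScheme.fromSpecStalk ξ ≫ D.ι := Scheme.SpecMap_stalkMap_fromSpecStalk _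
  let fst' := pullback.fst UD.ι (D.toScheme.fromSpecStalk ξ)
  let snd' := pullback.snd UD.ι (D.toScheme.fromSpecStalk ξ)
  let m : pullback UD.ι (D.toScheme.fromSpecStalk ξ) ⟶ pullback U.ι (X.fromSpecStalk (D.ι ξ)) :=
    pullback.lift (fst' ≫ e) (snd' ≫ φ) (by
      rw [Category.assoc, he, Category.assoc, hφ, ← Category.assoc, ← Category.assoc]
      exact congrArg (· ≫ D.ι) pullback.condition)
  exact ⟨(FEt.restrict φ).obj Yξ,
    ⟨restrictIso snd' φ rfl Yξ ≪≫ (restrictIso m _ (pullback.lift_snd _ _ _) Yξ).symm ≪≫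
      (FEt.restrict m).mapIso eY ≪≫ restrictIso m _ (pullback.lift_fst _ _ _) Y ≪≫
      (restrictIso fst' e rfl Y).symm⟩⟩

theorem exists_extension [IsLocallyNoetherian X] (U : X.Opens) (hU : Dense (U : Set X)) (Y : FEt.Cat U.toScheme)
    (hreg : ∀ x : X, x ∉ U → IsRegularLocalRing (X.presheaf.stalk x))
    (hunr : ∀ ξ : X, ξ ∉ U → ringKrullDim (X.presheaf.stalk ξ) = 1 → ExtAt U Y ξ) :
    ∃ Y' : FEt.Cat X, Nonempty ((FEt.restrict U.ι).obj Y' ≅ Y) := by
  haveI : IsFinite Y.hom := Y.prop.1
  haveI : Etale Y.hom := Y.prop.2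
  haveI : QuasiCompact U.ι := inferInstance
  let g := Y.hom ≫ U.ι
  haveI : QuasiCompact g := inferInstance
  haveI : QuasiSeparated g := inferInstance
  have hprop : FEt.prop g.fromNormalization := by
    suffices h : ∀ D : X.affineOpens, FEt.prop (pullback.snd g.fromNormalization D.1.ι) by
      exact ⟨IsZariskiLocalAtTarget.of_openCover (P := @IsFinite) (X.openCoverOfIsOpenCover _ (iSup_affineOpens_eq_top X)) fun D => (h D).1,
        IsZariskiLocalAtTarget.of_openCover (P := @Etale) (X.openCoverOfIsOpenCover _ (iSup_affineOpens_eq_top X)) fun D => (h D).2⟩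
    rintro ⟨D, hD⟩
    haveI : IsAffine D.toScheme := hD
    haveI : IsLocallyNoetherian D.toScheme := inferInstance
    haveI : AlgebraicGeometry.IsNoetherian D.toScheme := {}
    let UD := D.ι ⁻¹ᵁ U
    let e : UD.toScheme ⟶ U.toScheme := IsOpenImmersion.lift U.ι (UD.ι ≫ D.ι) (by
      rintro _ ⟨p, rfl⟩
      rw [Scheme.Opens.range_ι]
      exact p.2)
    have he : e ≫ U.ι = UD.ι ≫ D.ι := IsOpenImmersion.lift_fac _ _ _
    have hregD : ∀ ξ : D.toScheme, ξ ∉ UD → IsRegularLocalRing (D.toScheme.presheaf.stalk ξ) := fun ξ hξ => by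
      haveI := hreg (D.ι ξ) hξ
      exact IsRegularLocalRing.of_ringEquiv (asIso (D.ι.stalkMap ξ)).commRingCatIsoToRingEquiv
    have hUD : Dense (UD : Set D.toScheme) := hU.preimage D.ι.isOpenEmbedding.isOpenMap
    obtain ⟨W, w, v, hw, hwp, hv⟩ := ext_top UD hUD ((FEt.restrict e).obj Y) hregD fun ξ hξ hd => by
      refine extAt_restrict D U Y e he ξ (hunr _ hξ ?_)
      rwa [ringKrullDim_eq_of_ringEquiv (asIso (D.ι.stalkMap ξ)).commRingCatIsoToRingEquiv]
    have hwp' : FEt.prop w :=
      (Groth.L13.Purity.Spread.prop_of_isPullback (j := 𝟙 D.toScheme)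
        (IsPullback.of_horiz_isIso ⟨by simp⟩ : IsPullback (𝟙 W) w w (𝟙 D.toScheme))
        D.toScheme.topIso.symm (by simp)).1 hwp
    haveI : IsFinite w := hwp'.1
    haveI : Etale w := hwp'.2
    haveI : IsLocallyNoetherian W := LocallyOfFiniteType.isLocallyNoetherian w
    let v' : pullback Y.hom e ⟶ W := v
    have hv' : IsPullback v' (pullback.snd Y.hom e) w UD.ι := hv
    have hsq : IsPullback e UD.ι U.ι D.ι :=
      IsOpenImmersion.isPullback e UD.ι U.ι D.ι he.symm (by
        rw [Scheme.Opens.opensRange_ι, Scheme.Opens.opensRange_ι])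
    have hpb : IsPullback (pullback.fst Y.hom e) (pullback.snd Y.hom e ≫ UD.ι) g D.ι :=
      (IsPullback.of_hasPullback Y.hom e).paste_vert hsq
    let i : pullback g D.ι ⟶ W := hpb.isoPullback.inv ≫ v'
    haveI : IsOpenImmersion v' := MorphismProperty.of_isPullback hv'.flip inferInstance
    haveI : IsOpenImmersion i := inferInstance
    have hgw : pullback.snd g D.ι = i ≫ w := by
      show _ = (hpb.isoPullback.inv ≫ v') ≫ w
      rw [Category.assoc, hv'.w]
      exact hpb.isoPullback_inv_snd.symm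
    have hr : Set.range i = w ⁻¹' (UD : Set D.toScheme) := by
      ext p
      constructor
      · rintro ⟨q, rfl⟩
        show w ((hpb.isoPullback.inv ≫ v') q) ∈ UD
        rw [← Scheme.Hom.comp_apply, Category.assoc, hv'.w, Scheme.Hom.comp_apply, Scheme.Hom.comp_apply]
        exact ((pullback.snd Y.hom e) (hpb.isoPullback.inv q)).2
      · intro hp
        obtain ⟨z, hz, -⟩ := Scheme.Pullback.exists_preimage_pullback (f := w) (g := UD.ι) p ⟨w p, hp⟩ rfl
        obtain ⟨z', hz'⟩ := hv'.isoPullback.hom.surjective z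
        obtain ⟨q, hq⟩ := hpb.isoPullback.inv.surjective z'
        refine ⟨q, ?_⟩
        show (hpb.isoPullback.inv ≫ v') q = p
        rw [Scheme.Hom.comp_apply, hq, ← hz, ← hz', ← Scheme.Hom.comp_apply, IsPullback.isoPullback_hom_fst]
    have hdense : Dense (i.opensRange : Set W) := by
      show Dense (Set.range i)
      rw [hr]
      exact hUD.preimage w.isOpenMap
    have hnorm : ∀ p : W, p ∉ i.opensRange → IsDomain (W.presheaf.stalk p) ∧ IsIntegrallyClosed (W.presheaf.stalk p) := by
      intro p hp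
      have hp' : w p ∉ UD := fun h => hp (show p ∈ Set.range i from hr ▸ h)
      haveI := hregD _ hp'
      exact (Groth.L27.EtLocal.normal_stalk_iff w p).2
        ⟨Groth.L01.isDomain_of_regular _, Groth.L03.RegularNormal.isIntegrallyClosed _⟩
    haveI := isIso_desc (pullback.snd g D.ι) w i hgw hdense hnorm
    have h1 : FEt.prop (pullback.snd g D.ι).fromNormalization := by
      rw [← (pullback.snd g D.ι).normalizationDesc_comp i w hgw, MorphismProperty.cancel_left_of_respectsIso FEt.prop]
      exact hwp'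
    rw [← g.normalizationPullback_snd D.ι, MorphismProperty.cancel_left_of_respectsIso FEt.prop] at h1
    exact h1
  let W : FEt.Cat X := MorphismProperty.Over.mk ⊤ g.fromNormalization hprop
  let v : Y.left ⟶ ((FEt.restrict U.ι).obj W).left := pullback.lift g.toNormalization Y.hom
    (Scheme.Hom.toNormalization_fromNormalization _)
  haveI : IsIso v := Groth.L13.Purity.isIso_lift_toNormalization U Y.hom
  refine ⟨W, ⟨(MorphismProperty.Over.isoMk (asIso v) ?_).symm⟩⟩
  exact pullback.lift_snd _ _ _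

end Groth.L27.ExtendReg
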