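import Groth.Agent.L27.ExtendReg.Sections
import Mathlib.AlgebraicGeometry.Normalization

/-! A normal-outside finite cover extending a cover of a dense open is the normalization. -/

set_option autoImplicit false
set_option linter.style.haveILetI false
set_option backward.isDefEq.respectTransparency.types false

universe u

open CategoryTheory AlgebraicGeometry TopologicalSpace

namespace Groth.L27.ExtendReg

theorem isIso_desc {X V W : Scheme.{u}} [IsAffine X] (g : V ⟶ X) [QuasiCompact g] [QuasiSeparated g]
    (w : W ⟶ X) [IsFinite w] [IsLocallyNoetherian W] (i : V ⟶ W) [IsOpenImmersion i] (hg : g = i ≫ w)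
    (hd : Dense (i.opensRange : Set W))
    (hn : ∀ p : W, p ∉ i.opensRange → IsDomain (W.presheaf.stalk p) ∧ IsIntegrallyClosed (W.presheaf.stalk p)) :
    IsIso (g.normalizationDesc i w hg) := by
  let d := g.normalizationDesc i w hg
  haveI : IsAffine W := isAffine_of_isAffineHom w
  haveI : IsAffine g.normalization := isAffine_of_isAffineHom g.fromNormalization
  letI := (g.app ⊤).hom.toAlgebra
  let τ : Γ(g.normalization, ⊤) →+* Γ(V, ⊤) := g.toNormalization.appTop.hom
  have hτ : ∀ z, τ z = ((g.normalizationObjIso (isAffineOpen_top X)).hom.hom z).1 := fun z => by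
    have h := congr($(g.normalizationObjIso_hom_val (isAffineOpen_top X)) z)
    refine Eq.trans ?_ h.symm
    exact congr($((g.toNormalization.appLE_eq_app (U := ⊤)).symm) z)
  have hτi : Function.Injective τ := fun a b h => by
    rw [hτ, hτ] at h
    exact (ConcreteCategory.bijective_of_isIso (g.normalizationObjIso (isAffineOpen_top X)).hom).1 (Subtype.ext h)
  have hdi : ∀ b, τ (d.appTop.hom b) = i.appTop.hom b := fun b => by
    show (d.appTop ≫ g.toNormalization.appTop).hom b = _
    rw [← Scheme.Hom.comp_appTop, g.toNormalization_normalizationDesc]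
  let V0 := i.opensRange
  have hpre : (⊤ : V.Opens) ≤ i ⁻¹ᵁ V0 := fun v _ => ⟨v, rfl⟩
  let e := i.appLE V0 ⊤ hpre
  haveI : IsIso e := by
    have h0 : IsIso (homOfLE hpre) :=
      ⟨homOfLE le_top, Subsingleton.elim _ _, Subsingleton.elim _ _⟩
    haveI := i.isIso_app V0 le_rfl
    show IsIso (i.app V0 ≫ V.presheaf.map (homOfLE hpre).op)
    infer_instance
  have he : ∀ b, e.hom ((W.presheaf.map (homOfLE (le_top : V0 ≤ ⊤)).op).hom b) = i.appTop.hom b := fun b => by
    show (W.presheaf.map _ ≫ i.appLE V0 ⊤ hpre).hom b = _
    rw [Scheme.Hom.map_appLE]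
    exact congr($(i.appLE_eq_app (U := ⊤)) b)
  have hbij : Function.Bijective d.appTop.hom := by
    constructor
    · intro a b h
      refine eq_of_res_eq V0 hd hn a b ?_
      have h1 : i.appTop.hom a = i.appTop.hom b := by rw [← hdi, ← hdi, h]
      rw [← he, ← he] at h1
      have h2 := congrArg (W.presheaf.map (homOfLE (inf_le_right : ⊤ ⊓ V0 ≤ V0)).op).hom
        ((ConcreteCategory.bijective_of_isIso e).1 h1)
      simp only [← CommRingCat.comp_apply, ← Functor.map_comp] at h2
      exact h2
    · intro z
      obtain ⟨P, hP, hPz⟩ := ((g.normalizationObjIso (isAffineOpen_top X)).hom.hom z).2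
      obtain ⟨c, hc⟩ := (ConcreteCategory.bijective_of_isIso e).2 (τ z)
      have h1 : (P.map w.appTop.hom).eval₂ (W.presheaf.map (homOfLE (le_top : V0 ≤ ⊤)).op).hom c = 0 := by
        refine (ConcreteCategory.bijective_of_isIso e).1 ?_
        have key : (e.hom.comp (W.presheaf.map (homOfLE (le_top : V0 ≤ ⊤)).op).hom).comp w.appTop.hom =
            (g.app ⊤).hom := by
          ext r
          show e.hom ((W.presheaf.map _).hom (w.appTop.hom r)) = g.appTop.hom r
          rw [he]
          subst hg
          rw [Scheme.Hom.comp_appTop]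
          rfl
        show e.hom _ = e.hom 0
        rw [map_zero, Polynomial.hom_eval₂, Polynomial.eval₂_map, key]
        refine Eq.trans ?_ hPz
        congr 1
        exact (show e.hom c = τ z from hc).trans (hτ z)
      obtain ⟨b, hb⟩ := exists_eq_of_isIntegral V0 hd hn c (P.map w.appTop.hom) (hP.map _) h1
      refine ⟨b, hτi ?_⟩
      rw [hdi, ← he, hb]
      exact hc
  haveI : IsIso d.appTop := (ConcreteCategory.isIso_iff_bijective _).2 hbij
  exact (HasAffineProperty.iff_of_isAffine (P := MorphismProperty.isomorphisms Scheme)).2 ⟨inferInstance, this⟩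

end Groth.L27.ExtendReg
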