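import Groth.Agent.L13.Purity.Scheme
import Mathlib.AlgebraicGeometry.FunctionField

/-! Sections on a dense open of a scheme normal outside it. -/

set_option autoImplicit false
set_option linter.style.haveILetI false
set_option backward.isDefEq.respectTransparency.types false

universe u

open CategoryTheory AlgebraicGeometry TopologicalSpace

namespace Groth.L27.ExtendReg

variable {W : Scheme.{u}}

/-- restriction between nonempty opens inside an affine domain chart is injective -/
theorem res_injective {N : W.Opens} (hN : IsAffineOpen N) [IsDomain Γ(W, N)] {O O' : W.Opens} (h : O ≤ O') (h' : O' ≤ N)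
    (hne : (O : Set W).Nonempty) : Function.Injective (W.presheaf.map (homOfLE h).op).hom := by
  haveI : IsAffine N.toScheme := hN
  haveI : Nonempty N.toScheme := ⟨⟨hne.choose, h' (h hne.choose_spec)⟩⟩
  haveI : IsDomain Γ(N.toScheme, ⊤) := N.topIso.commRingCatIsoToRingEquiv.toMulEquiv.isDomain _
  haveI : IsIntegral N.toScheme := by
    haveI : IsIntegral (Spec Γ(N.toScheme, ⊤)) := inferInstance
    exact isIntegral_of_isOpenImmersion N.toScheme.isoSpec.hom
  have e1 : N.ι ''ᵁ (N.ι ⁻¹ᵁ O) = O := by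
    rw [Scheme.Hom.image_preimage_eq_opensRange_inf, Scheme.Opens.opensRange_ι]; exact inf_eq_right.2 (h.trans h')
  have e2 : N.ι ''ᵁ (N.ι ⁻¹ᵁ O') = O' := by
    rw [Scheme.Hom.image_preimage_eq_opensRange_inf, Scheme.Opens.opensRange_ι]; exact inf_eq_right.2 h'
  haveI : Nonempty (N.ι ⁻¹ᵁ O : N.toScheme.Opens) := ⟨⟨⟨hne.choose, h' (h hne.choose_spec)⟩, hne.choose_spec⟩⟩
  have hinj : Function.Injective (N.toScheme.presheaf.map (homOfLE (N.ι.preimage_mono h)).op).hom :=
    map_injective_of_isIntegral N.toScheme (homOfLE (N.ι.preimage_mono h))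
  have hinj' : Function.Injective (W.presheaf.map (homOfLE (N.ι.image_mono (N.ι.preimage_mono h))).op).hom := hinj
  intro a b hab
  have hb : ∀ z, (W.presheaf.map (homOfLE e1.le).op).hom ((W.presheaf.map (homOfLE h).op).hom z) =
      (W.presheaf.map (homOfLE (N.ι.image_mono (N.ι.preimage_mono h))).op).hom
        ((W.presheaf.map (homOfLE e2.le).op).hom z) := fun z =>
    (ConcreteCategory.congr_hom (W.presheaf.map_comp (homOfLE h).op (homOfLE e1.le).op) z).symm.trans
      (ConcreteCategory.congr_hom (W.presheaf.map_comp (homOfLE e2.le).op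
        (homOfLE (N.ι.image_mono (N.ι.preimage_mono h))).op) z)
  have hbij : Function.Injective (W.presheaf.map (homOfLE e2.le).op).hom := by
    have : IsIso (homOfLE e2.le) := ⟨homOfLE e2.ge, Subsingleton.elim _ _, Subsingleton.elim _ _⟩
    exact (ConcreteCategory.bijective_of_isIso (W.presheaf.map (homOfLE e2.le).op)).1
  exact hbij (hinj' (by rw [← hb, ← hb, hab]))

variable [IsLocallyNoetherian W] (V : W.Opens) (hV : Dense (V : Set W))
  (hn : ∀ w : W, w ∉ V → IsDomain (W.presheaf.stalk w) ∧ IsIntegrallyClosed (W.presheaf.stalk w))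

include hV hn

/-- the restriction to the dense open is injective -/
theorem eq_of_res_eq {O : W.Opens} (s t : Γ(W, O))
    (h : (W.presheaf.map (homOfLE (inf_le_left : O ⊓ V ≤ O)).op).hom s = (W.presheaf.map (homOfLE (inf_le_left : O ⊓ V ≤ O)).op).hom t) :
    s = t := by
  refine TopCat.Presheaf.section_ext W.sheaf O s t fun w hw => ?_
  by_cases hwV : w ∈ V
  · have h2 := congrArg (W.presheaf.germ (O ⊓ V) w ⟨hw, hwV⟩).hom h
    rwa [TopCat.Presheaf.germ_res_apply, TopCat.Presheaf.germ_res_apply] at h2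
  · haveI := (hn w hwV).1
    obtain ⟨N, hN, hwN, hdom⟩ := Groth.L13.Purity.exists_isDomain_nhd w
    haveI := hdom
    let O' := O ⊓ N
    have hne : ((O' ⊓ V : W.Opens) : Set W).Nonempty := by
      obtain ⟨z, hz, hzV⟩ := hV.inter_open_nonempty O' O'.2 ⟨w, hw, hwN⟩
      exact ⟨z, hz, hzV⟩
    have key : (W.presheaf.map (homOfLE (inf_le_left : O' ≤ O)).op).hom s =
        (W.presheaf.map (homOfLE (inf_le_left : O' ≤ O)).op).hom t := by
      refine res_injective hN (inf_le_left : O' ⊓ V ≤ O') inf_le_right hne ?_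
      have h2 := congrArg (W.presheaf.map (homOfLE (inf_le_inf_right V inf_le_left : O' ⊓ V ≤ O ⊓ V)).op).hom h
      simp only [← CommRingCat.comp_apply, ← Functor.map_comp] at h2 ⊢
      exact h2
    have h3 := congrArg (W.presheaf.germ O' w ⟨hw, hwN⟩).hom key
    rw [TopCat.Presheaf.germ_res_apply, TopCat.Presheaf.germ_res_apply] at h3
    exact h3

/-- a section on the dense open which is integral over the global sections extends -/
theorem exists_eq_of_isIntegral (c : Γ(W, V)) (P : Polynomial Γ(W, ⊤)) (hP : P.Monic)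
    (hc : P.eval₂ (W.presheaf.map (homOfLE (le_top : V ≤ ⊤)).op).hom c = 0) :
    ∃ b : Γ(W, ⊤), (W.presheaf.map (homOfLE (le_top : V ≤ ⊤)).op).hom b = c := by
  classical
  have hloc : ∀ w : W, ∃ (O : W.Opens) (b : Γ(W, O)), w ∈ O ∧
      (W.presheaf.map (homOfLE (inf_le_left : O ⊓ V ≤ O)).op).hom b =
        (W.presheaf.map (homOfLE (inf_le_right : O ⊓ V ≤ V)).op).hom c := by
    intro w
    by_cases hwV : w ∈ V
    · exact ⟨V, c, hwV, rfl⟩
    haveI := (hn w hwV).1
    haveI := (hn w hwV).2
    obtain ⟨N, hN, hwN, hdom⟩ := Groth.L13.Purity.exists_isDomain_nhd w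
    haveI := hdom
    obtain ⟨z, hzN, hzV⟩ := hV.inter_open_nonempty N N.2 ⟨w, hwN⟩
    obtain ⟨f, hfV, hzf⟩ := hN.exists_basicOpen_le (V := V) ⟨z, hzV⟩ hzN
    have hf0 : f ≠ 0 := by
      rintro rfl
      rw [Scheme.basicOpen_zero] at hzf
      exact hzf
    let R := Γ(W, N)
    let K := FractionRing R
    let Rf := Γ(W, W.basicOpen f)
    letI : Algebra R Rf := (W.presheaf.map (homOfLE (W.basicOpen_le f)).op).hom.toAlgebra
    haveI : IsLocalization.Away f Rf := hN.isLocalization_basicOpen f
    let ι : Rf →ₐ[R] K := IsLocalization.liftAlgHom (M := Submonoid.powers f) (f := Algebra.ofId R K)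
      (fun y => (IsLocalization.map_units K
        (⟨y.1, powers_le_nonZeroDivisors_of_noZeroDivisors hf0 y.2⟩ : nonZeroDivisors R)))
    have hι : Function.Injective ι := by
      intro a b hab
      obtain ⟨⟨a', s'⟩, ha⟩ := IsLocalization.surj (Submonoid.powers f) a
      obtain ⟨⟨b', t'⟩, hb⟩ := IsLocalization.surj (Submonoid.powers f) b
      have ha' := congrArg ι ha
      have hb' := congrArg ι hb
      rw [map_mul, AlgHom.commutes, AlgHom.commutes] at ha' hb'
      have h1 : algebraMap R K (a' * t') = algebraMap R K (b' * s') := by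
        rw [map_mul, map_mul, ← ha', ← hb', hab]; ring
      have h2 := congrArg (algebraMap R Rf) (IsFractionRing.injective R K h1)
      rw [map_mul, map_mul, ← ha, ← hb] at h2
      exact ((IsLocalization.map_units Rf s').mul (IsLocalization.map_units Rf t')).mul_right_cancel
        (by linear_combination h2)
    let res : Γ(W, V) →+* Rf := (W.presheaf.map (homOfLE hfV).op).hom
    have hint : _root_.IsIntegral R (ι (res c)) := by
      refine ⟨P.map (W.presheaf.map (homOfLE (le_top : N ≤ ⊤)).op).hom, hP.map _, ?_⟩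
      have h1 := congrArg (fun x => ι (res x)) hc
      simp only [map_zero] at h1
      rw [Polynomial.hom_eval₂] at h1
      have h2 := congrArg ι (Polynomial.hom_eval₂ P (W.presheaf.map (homOfLE (le_top : V ≤ ⊤)).op).hom res c)
      rw [hc, map_zero, map_zero] at h2
      rw [Polynomial.eval₂_map]
      refine Eq.trans ?_ h2.symm
      rw [← AlgHom.coe_toRingHom, Polynomial.hom_eval₂]
      congr 1
      ext r
      show algebraMap R K _ = ι (res _)
      rw [← ι.commutes]
      exact congrArg ι ((ConcreteCategory.congr_hom (W.presheaf.map_comp (homOfLE (le_top : N ≤ ⊤)).op (homOfLE (W.basicOpen_le f)).op) r).symm.trans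
        (ConcreteCategory.congr_hom (W.presheaf.map_comp (homOfLE (le_top : V ≤ ⊤)).op (homOfLE hfV).op) r))
    letI : Algebra R (W.presheaf.stalk w) := TopCat.Presheaf.algebra_section_stalk W.presheaf ⟨w, hwN⟩
    let p := (hN.primeIdealOf ⟨w, hwN⟩).asIdeal
    haveI : IsLocalization.AtPrime (W.presheaf.stalk w) p := hN.isLocalization_stalk ⟨w, hwN⟩
    let κ : W.presheaf.stalk w →ₐ[R] K := IsLocalization.liftAlgHom (M := p.primeCompl) (f := Algebra.ofId R K)
      (fun y => (IsLocalization.map_units K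
        (⟨y.1, mem_nonZeroDivisors_of_ne_zero fun h0 => y.2 (h0 ▸ p.zero_mem)⟩ : nonZeroDivisors R)))
    letI : Algebra (W.presheaf.stalk w) K := κ.toAlgebra
    haveI : IsScalarTower R (W.presheaf.stalk w) K := IsScalarTower.of_algebraMap_eq fun r => (κ.commutes r).symm
    haveI : IsFractionRing (W.presheaf.stalk w) K :=
      IsFractionRing.isFractionRing_of_isDomain_of_isLocalization p.primeCompl _ K
    obtain ⟨o, ho⟩ := IsIntegrallyClosed.isIntegral_iff.1 (hint.tower_top (A := W.presheaf.stalk w))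
    obtain ⟨⟨r, s⟩, hrs⟩ := IsLocalization.surj p.primeCompl o
    have hs0 : (s : R) ≠ 0 := fun h0 => s.2 (h0 ▸ p.zero_mem)
    have h1 : ι (res c) * algebraMap R K s = algebraMap R K r := by
      rw [← ho, IsScalarTower.algebraMap_apply R (W.presheaf.stalk w) K, ← map_mul]
      exact (congrArg _ hrs).trans (IsScalarTower.algebraMap_apply R (W.presheaf.stalk w) K r).symm
    have h2 : res c * algebraMap R Rf s = algebraMap R Rf r := hι (by rw [map_mul, ι.commutes, ι.commutes, h1])
    let O := W.basicOpen (s : R)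
    let Rs := Γ(W, O)
    letI : Algebra R Rs := (W.presheaf.map (homOfLE (W.basicOpen_le _)).op).hom.toAlgebra
    haveI : IsLocalization.Away (s : R) Rs := hN.isLocalization_basicOpen (s : R)
    have hwO : w ∈ O := (W.mem_basicOpen _ w hwN).2 (IsLocalization.map_units (W.presheaf.stalk w) s)
    let b : Rs := IsLocalization.mk' Rs r (⟨(s : R), Submonoid.mem_powers _⟩ : Submonoid.powers (s : R))
    refine ⟨O, b, hwO, ?_⟩
    let O₂ := O ⊓ V ⊓ W.basicOpen f
    have hne : (O₂ : Set W).Nonempty := by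
      haveI : IsAffine N.toScheme := hN
      haveI : IsDomain Γ(N.toScheme, ⊤) := N.topIso.commRingCatIsoToRingEquiv.toMulEquiv.isDomain _
      haveI : Nonempty N.toScheme := ⟨⟨w, hwN⟩⟩
      haveI : IsIntegral N.toScheme := by
        haveI : IsIntegral (Spec Γ(N.toScheme, ⊤)) := inferInstance
        exact isIntegral_of_isOpenImmersion N.toScheme.isoSpec.hom
      obtain ⟨⟨y, hyN⟩, hyO, hyf⟩ := nonempty_preirreducible_inter (X := N.toScheme) (N.ι ⁻¹ᵁ O).2 (N.ι ⁻¹ᵁ W.basicOpen f).2
        ⟨⟨w, hwN⟩, hwO⟩ ⟨⟨z, hzN⟩, hzf⟩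
      exact ⟨y, ⟨hyO, hfV hyf⟩, hyf⟩
    refine res_injective hN (inf_le_left : O₂ ≤ O ⊓ V) ((inf_le_left).trans (W.basicOpen_le _)) hne ?_
    have key : IsUnit ((W.presheaf.map (homOfLE ((inf_le_left.trans inf_le_left).trans (W.basicOpen_le _) : O₂ ≤ N)).op).hom (s : R)) := by
      refine (W.presheaf.map (homOfLE (inf_le_left.trans inf_le_left : O₂ ≤ O)).op).hom.isUnit_map
        (IsLocalization.Away.algebraMap_isUnit (S := Rs) (s : R)) |> fun hh => ?_
      rw [RingHom.algebraMap_toAlgebra] at hh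
      simp only [← CommRingCat.comp_apply, ← Functor.map_comp] at hh
      exact hh
    apply key.mul_right_cancel
    have h3 := congrArg (W.presheaf.map (homOfLE (inf_le_right : O₂ ≤ W.basicOpen f)).op).hom h2
    have h4 := congrArg (W.presheaf.map (homOfLE (inf_le_left.trans inf_le_left : O₂ ≤ O)).op).hom
      (IsLocalization.mk'_spec Rs r (⟨(s : R), Submonoid.mem_powers _⟩ : Submonoid.powers (s : R)))
    simp only [res, map_mul, RingHom.algebraMap_toAlgebra, ← CommRingCat.comp_apply, ← Functor.map_comp] at h3 h4 ⊢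
    exact h4.trans h3.symm
  choose O b hwO hb using hloc
  have hres : ∀ {A B C : W.Opens} (h1 : B ≤ A) (h2 : C ≤ B) (x : Γ(W, A)),
      (W.presheaf.map (homOfLE h2).op).hom ((W.presheaf.map (homOfLE h1).op).hom x) = (W.presheaf.map (homOfLE (h2.trans h1)).op).hom x :=
    fun h1 h2 x => (ConcreteCategory.congr_hom (W.presheaf.map_comp (homOfLE h1).op (homOfLE h2).op) x).symm
  have hcov : (⊤ : W.Opens) ≤ iSup O := fun w _ => Opens.mem_iSup.2 ⟨w, hwO w⟩
  have hcompat : TopCat.Presheaf.IsCompatible W.presheaf O b := by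
    intro i j
    refine eq_of_res_eq V hV hn _ _ ?_
    have hi := congrArg (W.presheaf.map (homOfLE (inf_le_inf_right V inf_le_left : O i ⊓ O j ⊓ V ≤ O i ⊓ V)).op).hom (hb i)
    have hj := congrArg (W.presheaf.map (homOfLE (inf_le_inf_right V inf_le_right : O i ⊓ O j ⊓ V ≤ O j ⊓ V)).op).hom (hb j)
    rw [hres, hres] at hi hj
    show (W.presheaf.map _).hom ((W.presheaf.map (homOfLE (inf_le_left : O i ⊓ O j ≤ O i)).op).hom (b i)) =
      (W.presheaf.map _).hom ((W.presheaf.map (homOfLE (inf_le_right : O i ⊓ O j ≤ O j)).op).hom (b j))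
    rw [hres, hres]
    exact hi.trans hj.symm
  obtain ⟨b0, hb0, -⟩ := TopCat.Sheaf.existsUnique_gluing' W.sheaf O ⊤ (fun _ => homOfLE le_top) hcov b hcompat
  refine ⟨b0, TopCat.Sheaf.eq_of_locally_eq' W.sheaf (fun i => O i ⊓ V) V (fun i => homOfLE inf_le_right)
    (fun v hv => ?_) _ _ fun i => ?_⟩
  · obtain ⟨i, hi⟩ := Opens.mem_iSup.1 (hcov (Opens.mem_top v))
    exact Opens.mem_iSup.2 ⟨i, hi, hv⟩
  · refine Eq.trans ?_ (hb i)
    rw [← hb0 i]
    exact (hres le_top inf_le_right b0).trans (hres le_top inf_le_left b0).symm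

end Groth.L27.ExtendReg
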